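import Groth.Agent.Lib.Kunz27.Basic
import Groth.Agent.Lib.DerivTors27.Basic
import Groth.Agent.Lib.Goren.Basic
import Groth.Agent.S0342
import Groth.Agent.S0344
import Mathlib.Algebra.Category.ModuleCat.ChangeOfRings
import Mathlib.RingTheory.Flat.Basic

/-!
# Frobenius stable torsion modules over regular local rings
-/

set_option autoImplicit false
universe u

open IsLocalRing TensorProduct InjHull Groth.Agent.InjHullLib

noncomputable section

namespace Groth.Agent.FrobTors27

/-- Torsion in a flat base change. -/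
theorem exists_torsion_baseChange {A B : Type u} [CommRing A] [CommRing B] [Algebra A B] [Module.Flat A B]
    [IsNoetherianRing A] (N : Type u) [AddCommGroup N] [Module A N] (M' : Type u) [AddCommGroup M'] [Module B M']
    (e : B ⊗[A] N ≃ₗ[B] M') (I : Ideal A) :
    Nonempty (B ⊗[A] Submodule.torsionBySet A N (I : Set A) ≃ₗ[B]
      Submodule.torsionBySet B M' (I.map (algebraMap A B) : Set B)) := by
  classical
  obtain ⟨s, a, ha⟩ := Submodule.fg_iff_exists_fin_generating_family.1 (IsNoetherian.noetherian I)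
  let T := Submodule.torsionBySet A N (I : Set A)
  let μ : N →ₗ[A] (Fin s → N) := LinearMap.pi fun i => a i • LinearMap.id
  have hex : Function.Exact T.subtype μ := fun x => by
    constructor
    · intro hx
      refine ⟨⟨x, (Submodule.mem_torsionBySet_iff _ _).2 fun r => ?_⟩, rfl⟩
      obtain ⟨r, hr⟩ := r
      change r • x = 0
      rw [SetLike.mem_coe, ← ha] at hr
      induction hr using Submodule.span_induction with
      | mem y hy => obtain ⟨i, rfl⟩ := hy; exact congrFun hx i
      | zero => rw [zero_smul]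
      | add y z _ _ hy hz => rw [add_smul, hy, hz, add_zero]
      | smul c y _ hy => rw [smul_eq_mul, mul_smul, hy, smul_zero]
    · rintro ⟨y, rfl⟩
      refine funext fun i => ?_
      exact (Submodule.mem_torsionBySet_iff _ _).1 y.2 ⟨a i, ha ▸ Submodule.subset_span ⟨i, rfl⟩⟩
  let F : B ⊗[A] T →ₗ[B] M' := e.toLinearMap ∘ₗ T.subtype.baseChange B
  have hF : Function.Injective F :=
    e.injective.comp (Module.Flat.lTensor_preserves_injective_linearMap (M := B) _ T.injective_subtype)
  have hpi : ∀ (x : B ⊗[A] N) (i : Fin s),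
      TensorProduct.piRight A B B (fun _ => N) (μ.lTensor B x) i = algebraMap A B (a i) • x := by
    intro x i
    induction x using TensorProduct.induction_on with
    | zero => simp
    | tmul b n =>
      rw [LinearMap.lTensor_tmul, TensorProduct.piRight_apply, TensorProduct.piRightHom_tmul]
      show b ⊗ₜ[A] (a i • n) = _
      rw [TensorProduct.tmul_smul, algebraMap_smul]
    | add x y hx hy => simp only [map_add, Pi.add_apply, smul_add, hx, hy]
  have hrange : LinearMap.range F = Submodule.torsionBySet B M' (I.map (algebraMap A B) : Set B) := by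
    refine le_antisymm ?_ ?_
    · rintro _ ⟨x, rfl⟩
      refine (Submodule.mem_torsionBySet_iff _ _).2 fun r => ?_
      obtain ⟨r, hr⟩ := r
      change r • F x = 0
      rw [SetLike.mem_coe, ← ha, Ideal.map_span] at hr
      induction hr using Submodule.span_induction with
      | mem y hy =>
        obtain ⟨_, ⟨i, rfl⟩, rfl⟩ := hy
        rw [LinearMap.comp_apply, LinearEquiv.coe_coe, ← map_smul, ← hpi]
        have h0 := ((Module.Flat.lTensor_exact B hex) _).2 ⟨x, rfl⟩
        have h1 : (T.subtype.baseChange B) x = T.subtype.lTensor B x := rfl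
        rw [h1, h0, map_zero, Pi.zero_apply, map_zero]
      | zero => rw [zero_smul]
      | add y z _ _ hy hz => rw [add_smul, hy, hz, add_zero]
      | smul c y _ hy => rw [smul_eq_mul, mul_smul, hy, smul_zero]
    · intro y hy
      obtain ⟨x, rfl⟩ := e.surjective y
      have h0 : μ.lTensor B x = 0 := (TensorProduct.piRight A B B (fun _ => N)).injective (funext fun i => by
        rw [map_zero, Pi.zero_apply, hpi]
        refine e.injective ?_
        rw [map_smul, map_zero]
        exact (Submodule.mem_torsionBySet_iff _ _).1 hy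
          ⟨_, Ideal.mem_map_of_mem _ (ha ▸ Submodule.subset_span ⟨i, rfl⟩)⟩)
      obtain ⟨t, ht⟩ := ((Module.Flat.lTensor_exact B hex) x).1 h0
      exact ⟨t, congrArg e ht⟩
  exact ⟨(LinearEquiv.ofInjective F hF).trans (LinearEquiv.ofEq _ _ hrange)⟩

/-- Freeness of the torsion passes to a flat base change. -/
theorem exists_torsion_free_baseChange {A B : Type u} [CommRing A] [CommRing B] [Algebra A B] [Module.Flat A B]
    [IsNoetherianRing A] (N : Type u) [AddCommGroup N] [Module A N] (M' : Type u) [AddCommGroup M'] [Module B M']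
    (e : B ⊗[A] N ≃ₗ[B] M') (I : Ideal A) (J : Type u)
    (eI : Submodule.torsionBySet A N (I : Set A) ≃ₗ[A] (J →₀ A ⧸ I)) :
    Nonempty (Submodule.torsionBySet B M' (I.map (algebraMap A B) : Set B) ≃ₗ[B] (J →₀ B ⧸ I.map (algebraMap A B))) := by
  classical
  obtain ⟨e1⟩ := exists_torsion_baseChange N M' e I
  exact ⟨e1.symm.trans ((LinearEquiv.baseChange A B _ _ eI).trans
    ((TensorProduct.finsuppRight A B B (A ⧸ I) J).trans
      (Finsupp.mapRange.linearEquiv (Ideal.qoutMapEquivTensorQout B).symm)))⟩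

/-- If all torsion layers are free over self-injective quotients, the module is injective. -/
theorem injective_of_layers {R : Type u} [CommRing R] [IsNoetherianRing R] (M : Type u) [AddCommGroup M] [Module R M]
    (m : Ideal R) (hM : LocCoh.IsPowerTorsion m M)
    (h : ∀ n : ℕ, ∃ (I : Ideal R) (J : Type u), I ≤ m ^ n ∧ Module.Injective (R ⧸ I) (R ⧸ I) ∧
      (∃ N, m ^ N ≤ I) ∧ Nonempty (Submodule.torsionBySet R M (I : Set R) ≃ₗ[R] (J →₀ R ⧸ I))) :
    Module.Injective R M := by
  classical
  obtain ⟨Ω, _, _, ι, hι⟩ := exists_injective_hull R M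
  have heq : LinearMap.range ι = powTors m Ω := by
    refine le_antisymm ?_ fun w hw => ?_
    · rintro _ ⟨z, rfl⟩
      obtain ⟨n, hn⟩ := hM z
      exact mem_powTors_iff.2 ⟨n, fun a ha => by rw [← map_smul, hn a ha, map_zero]⟩
    obtain ⟨n, hn⟩ := mem_powTors_iff.1 hw
    obtain ⟨I, J, hIn, hQ, -, ⟨eJ⟩⟩ := h n
    let T := Submodule.torsionBySet R M (I : Set R)
    let S := Submodule.torsionBySet R Ω (I : Set R)
    letI : Module (R ⧸ I) S := (Submodule.torsionBySet_isTorsionBySet (R := R) (M := Ω) (I : Set R)).module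
    haveI : IsScalarTower R (R ⧸ I) S :=
      (Submodule.torsionBySet_isTorsionBySet (R := R) (M := Ω) (I : Set R)).isScalarTower
    letI : Module (R ⧸ I) T := (Submodule.torsionBySet_isTorsionBySet (R := R) (M := M) (I : Set R)).module
    haveI : IsScalarTower R (R ⧸ I) T :=
      (Submodule.torsionBySet_isTorsionBySet (R := R) (M := M) (I : Set R)).isScalarTower
    let j : T →ₗ[R] S := (ι.domRestrict T).codRestrict S fun z => (Submodule.mem_torsionBySet_iff _ _).2 fun a => by
      show (a : R) • ι z.1 = 0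
      rw [← map_smul, (Submodule.mem_torsionBySet_iff _ _).1 z.2 a, map_zero]
    have hj : Function.Injective j := fun a b hab =>
      Subtype.ext (hι.toIsEssentialInj.injective (congrArg Subtype.val hab))
    let jQ := LinearMap.extendScalarsOfSurjective (S := R ⧸ I) Ideal.Quotient.mk_surjective j
    let eQ : T ≃ₗ[R ⧸ I] (J →₀ R ⧸ I) :=
      { eJ with map_smul' := (LinearMap.extendScalarsOfSurjective (S := R ⧸ I) Ideal.Quotient.mk_surjective eJ.toLinearMap).map_smul }
    have hinj : Module.Injective (R ⧸ I) T :=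
      injective_of_linearEquiv ((finsuppLequivDFinsupp (R ⧸ I)).symm.trans eQ.symm)
        (InjHullLib.injective_directSum (fun _ : J => R ⧸ I) fun _ => hQ)
    obtain ⟨r, hr⟩ := hinj.out jQ hj LinearMap.id
    have hrinj : Function.Injective r := by
      refine (injective_iff_map_eq_zero r).2 fun y hy => ?_
      by_contra hy0
      obtain ⟨c, z, hcz, hz0⟩ := hι.toIsEssentialInj.exists_smul (x := (y : Ω)) fun h0 => hy0 (Subtype.ext h0)
      have hz : z ∈ T := (Submodule.mem_torsionBySet_iff _ _).2 fun a => hι.toIsEssentialInj.injective (by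
        rw [map_smul, hcz, smul_comm, (Submodule.mem_torsionBySet_iff _ _).1 y.2 a, smul_zero, map_zero])
      have h1 : jQ ⟨z, hz⟩ = Ideal.Quotient.mk I c • y := Subtype.ext hcz
      have h2 := hr ⟨z, hz⟩
      rw [h1, map_smul, hy, smul_zero] at h2
      exact hz0 (by
        have : z = 0 := congrArg Subtype.val h2.symm
        rw [this])
    have hwS : w ∈ S := (Submodule.mem_torsionBySet_iff _ _).2 fun a => hn _ (hIn a.2)
    have hw' : jQ (r ⟨w, hwS⟩) = ⟨w, hwS⟩ := hrinj (hr _)
    exact ⟨(r ⟨w, hwS⟩).1, congrArg Subtype.val hw'⟩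
  exact injective_of_linearEquiv
    ((LinearEquiv.ofEq _ _ heq.symm).trans (LinearEquiv.ofInjective ι hι.toIsEssentialInj.injective).symm)
    (injective_powTors (isInjectiveHull_injective hι) _)

/-- The fibre of a flat local endomorphism of a regular local ring is self-injective when Artinian. -/
theorem injective_fibre {A B : Type u} [CommRing A] [IsRegularLocalRing A] [CommRing B] [IsRegularLocalRing B]
    [Algebra A B] [IsLocalHom (algebraMap A B)] [Module.Flat A B] (I : Ideal B)
    (hI : I = (maximalIdeal A).map (algebraMap A B)) {N : ℕ} (hN : maximalIdeal B ^ N ≤ I) :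
    Module.Injective (B ⧸ I) (B ⧸ I) := by
  subst hI
  set I := (maximalIdeal A).map (algebraMap A B) with hI
  have hG : LocCoh.IsGorensteinLocalRing (B ⧸ I) := ((S0344.result A B).1 (S0342.result B)).2
  obtain ⟨n, hn⟩ := hG.exists_hasInjectiveDimensionLT
  haveI := hG.toIsLocalRing
  refine GorenLib.injective_of_depth_zero (le_antisymm ?_ bot_le) n
    (CategoryTheory.hasInjectiveDimensionLT_of_ge _ n (n + 1) n.le_succ)
  obtain ⟨d, hd⟩ := DepthLib.exists_depth_eq_natCast (R := B ⧸ I) (M := B ⧸ I)
  haveI : Ring.KrullDimLE 0 (B ⧸ I) := Ring.krullDimLE_zero_iff.2 fun P hP => by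
    have hc := Ideal.comap_isPrime (Ideal.Quotient.mk I) P
    have hle : maximalIdeal B ≤ P.comap (Ideal.Quotient.mk I) := fun y hy => hc.mem_of_pow_mem N (by
      rw [Ideal.mem_comap, Ideal.Quotient.eq_zero_iff_mem.2 (hN (Ideal.pow_mem_pow hy N))]
      exact zero_mem _)
    have heq := (maximalIdeal.isMaximal B).eq_of_le hc.ne_top hle
    have hmax : (P.comap (Ideal.Quotient.mk I)).IsMaximal := heq ▸ maximalIdeal.isMaximal B
    have hmap := Ideal.map_eq_top_or_isMaximal_of_surjective (Ideal.Quotient.mk I) Ideal.Quotient.mk_surjective hmax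
    rw [Ideal.map_comap_of_surjective _ Ideal.Quotient.mk_surjective] at hmap
    exact hmap.resolve_left hP.ne_top
  rw [hd, (GorenLib.gorenstein_invariants d (B ⧸ I) hd).1 |> fun h => show d = 0 by
    rw [ringKrullDimZero_iff_ringKrullDim_eq_zero.1 inferInstance] at h
    exact_mod_cast h.symm]
  exact le_rfl

theorem exists_torsion_free_of_flat {A B : Type u} [CommRing A] [CommRing B] (φ : A →+* B) (hφ : φ.Flat)
    [IsNoetherianRing A] (N : Type u) [AddCommGroup N] [Module A N] (M' : Type u) [AddCommGroup M'] [Module B M']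
    (e : (ModuleCat.extendScalars φ).obj (ModuleCat.of A N) ≅ ModuleCat.of B M') (I : Ideal A) (J : Type u)
    (eI : Submodule.torsionBySet A N (I : Set A) ≃ₗ[A] (J →₀ A ⧸ I)) :
    Nonempty (Submodule.torsionBySet B M' (I.map φ : Set B) ≃ₗ[B] (J →₀ B ⧸ I.map φ)) := by
  letI := φ.toAlgebra
  haveI : Module.Flat A B := hφ
  exact exists_torsion_free_baseChange (A := A) (B := B) N M' e.toLinearEquiv I J eI

theorem injective_fibre' {A B : Type u} [CommRing A] [IsRegularLocalRing A] [CommRing B] [IsRegularLocalRing B]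
    (φ : A →+* B) [IsLocalHom φ] (hφ : φ.Flat) {N : ℕ} (hN : maximalIdeal B ^ N ≤ (maximalIdeal A).map φ) :
    Module.Injective (B ⧸ (maximalIdeal A).map φ) (B ⧸ (maximalIdeal A).map φ) := by
  letI := φ.toAlgebra
  haveI : IsLocalHom (algebraMap A B) := ‹IsLocalHom φ›
  haveI : Module.Flat A B := hφ
  exact injective_fibre (A := A) (B := B) _ rfl hN

theorem stable_isInjective (p : ℕ) [Fact p.Prime] (R : Type u) [CommRing R] [IsRegularLocalRing R] [CharP R p]
    (M : Type u) [AddCommGroup M] [Module R M] (hM : LocCoh.IsPowerTorsion (maximalIdeal R) M)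
    (h : Nonempty ((ModuleCat.extendScalars (frobenius R p)).obj (ModuleCat.of R M) ≅ ModuleCat.of R M)) :
    Module.Injective R M := by
  classical
  obtain ⟨e⟩ := h
  have hstep : ∀ (I : Ideal R) (J : Type u),
      Nonempty (Submodule.torsionBySet R M (I : Set R) ≃ₗ[R] (J →₀ R ⧸ I)) →
      Nonempty (Submodule.torsionBySet R M (I.map (frobenius R p) : Set R) ≃ₗ[R] (J →₀ R ⧸ I.map (frobenius R p))) := by
    intro I J ⟨eI⟩
    exact exists_torsion_free_of_flat (frobenius R p) (Kunz27.flat_frobenius_of_isRegularLocalRing p R) M M e I J eI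
  obtain ⟨J, hJ⟩ : ∃ J : Type u, Nonempty (Submodule.torsionBySet R M (maximalIdeal R : Set R) ≃ₗ[R]
      (J →₀ R ⧸ maximalIdeal R)) := by
    let T := Submodule.torsionBySet R M (maximalIdeal R : Set R)
    letI : Module (R ⧸ maximalIdeal R) T :=
      (Submodule.torsionBySet_isTorsionBySet (R := R) (M := M) (maximalIdeal R : Set R)).module
    haveI : IsScalarTower R (R ⧸ maximalIdeal R) T :=
      (Submodule.torsionBySet_isTorsionBySet (R := R) (M := M) (maximalIdeal R : Set R)).isScalarTower
    letI := Ideal.Quotient.field (maximalIdeal R)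
    exact ⟨_, ⟨((Module.Basis.ofVectorSpace (R ⧸ maximalIdeal R) T).repr).restrictScalars R⟩⟩
  refine injective_of_layers M (maximalIdeal R) hM fun n => ?_
  have hpe : ∀ e : ℕ, ∃ ψ : R →+* R, ψ.Flat ∧ IsLocalHom ψ ∧ (∀ a, ψ a = a ^ p ^ e) ∧
      Nonempty (Submodule.torsionBySet R M ((maximalIdeal R).map ψ : Set R) ≃ₗ[R]
        (J →₀ R ⧸ (maximalIdeal R).map ψ)) := by
    intro e
    induction e with
    | zero => exact ⟨RingHom.id R, RingHom.Flat.id R, inferInstance, by simp, by rw [Ideal.map_id]; exact hJ⟩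
    | succ e ih =>
      obtain ⟨ψ, h1, h2, h3, h4⟩ := ih
      have h5 : ∀ a, (frobenius R p).comp ψ a = a ^ p ^ (e + 1) := fun a => by
        rw [RingHom.comp_apply, frobenius_def, h3, ← pow_mul, ← pow_succ]
      refine ⟨(frobenius R p).comp ψ, RingHom.Flat.comp h1 (Kunz27.flat_frobenius_of_isRegularLocalRing p R),
        ⟨fun a ha => ?_⟩, h5, ?_⟩
      · rw [h5] at ha
        exact (isUnit_pow_iff (pow_ne_zero _ (Fact.out (p := p.Prime)).ne_zero)).1 ha
      · rw [← Ideal.map_map]
        exact hstep _ J h4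
  obtain ⟨ψ, h1, h2, h3, h4⟩ := hpe n
  have hN : ∃ N, maximalIdeal R ^ N ≤ (maximalIdeal R).map ψ :=
    Ideal.exists_pow_le_of_le_radical_of_fg (fun a ha => ⟨p ^ n, h3 a ▸ Ideal.mem_map_of_mem ψ ha⟩)
      (IsNoetherian.noetherian _)
  refine ⟨(maximalIdeal R).map ψ, J, Ideal.map_le_iff_le_comap.2 fun a ha => ?_, ?_, hN, h4⟩
  · rw [Ideal.mem_comap, h3]
    exact Ideal.pow_le_pow_right (Nat.lt_pow_self (Fact.out (p := p.Prime)).one_lt).le (Ideal.pow_mem_pow ha _)
  · obtain ⟨N, hN⟩ := hN
    exact injective_fibre' ψ h1 hN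

end Groth.Agent.FrobTors27
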